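import Mathlib
import Groth.Agent.H17.GenFreeAlg
import Groth.Agent.H17.HS.Rees

set_option autoImplicit false
set_option linter.style.haveILetI false

/-!
# Generic freeness of the associated graded module (helper70)

`B` Noetherian ring, `J` ideal, `M` finite `B`-module, `D` a domain with `B ⧸ J` a `D`-algebra of
finite type. Then there is `d ≠ 0` in `D` such that for every flat `D`-algebra `A'` in which `d`
is invertible, all `A' ⊗[D] (J^n M / J^{n+1} M)` are flat `A'`-modules.
-/

namespace Groth.Agent.H70.GrFree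

open TensorProduct Polynomial PolynomialModule
open Groth.Agent.H17.HS (RA submod submod_fg single_mem_submod)

universe u

section Rees

variable {B : Type u} [CommRing B] (J : Ideal B) (M : Type u) [AddCommGroup M] [Module B M]

/-- The `J`-adic filtration. -/
abbrev Fil : J.Filtration M := J.stableFiltration (⊤ : Submodule B M)

/-- The Rees module `⨁ J^n M`. -/
noncomputable abbrev ReesM : Submodule (RA J) (PolynomialModule B M) := submod (Fil J M)

/-- The extension of `J` to the Rees algebra. -/
noncomputable abbrev JR : Ideal (RA J) := J.map (algebraMap B (RA J))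

/-- `⨁ J^n M / J^{n+1} M` as a quotient of the Rees module. -/
abbrev Q : Type u := ↥(ReesM J M) ⧸ (JR J • (⊤ : Submodule (RA J) ↥(ReesM J M)))

/-- The graded piece `J^n M / J^{n+1} M`. -/
abbrev G (n : ℕ) : Type u :=
  ↥(J ^ n • (⊤ : Submodule B M)) ⧸ (J • (⊤ : Submodule B ↥(J ^ n • (⊤ : Submodule B M))))

theorem single_mem (n : ℕ) {m : M} (hm : m ∈ J ^ n • (⊤ : Submodule B M)) :
    single B n m ∈ ReesM J M :=
  single_mem_submod (Fil J M) n hm

/-- inclusion of the `n`-th component into the Rees module -/
noncomputable def incl (n : ℕ) : ↥(J ^ n • (⊤ : Submodule B M)) →ₗ[B] ↥(ReesM J M) where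
  toFun m := ⟨single B n m.1, single_mem J M n m.2⟩
  map_add' x y := by
    apply Subtype.ext
    simp [single_add]
  map_smul' c x := by
    apply Subtype.ext
    simp [single_smul]

/-- projection of the Rees module onto its `n`-th component -/
noncomputable def proj (n : ℕ) : ↥(ReesM J M) →ₗ[B] ↥(J ^ n • (⊤ : Submodule B M)) where
  toFun x := ⟨x.1.coeff n, x.2 n⟩
  map_add' x y := by
    apply Subtype.ext
    simp
  map_smul' c x := by
    apply Subtype.ext
    simp
    rfl

theorem proj_incl (n : ℕ) (m : ↥(J ^ n • (⊤ : Submodule B M))) :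
    proj J M n (incl J M n m) = m := by
  apply Subtype.ext
  simp [proj, incl, coeff_single]

theorem incl_mem (n : ℕ) :
    (J • (⊤ : Submodule B ↥(J ^ n • (⊤ : Submodule B M)))) ≤
      ((JR J • (⊤ : Submodule (RA J) ↥(ReesM J M))).restrictScalars B).comap (incl J M n) := by
  rw [Submodule.smul_le]
  intro a ha m _
  rw [Submodule.mem_comap, _root_.map_smul, Submodule.restrictScalars_mem,
    ← algebraMap_smul (RA J) a (incl J M n m)]
  exact Submodule.smul_mem_smul (Ideal.mem_map_of_mem _ ha) Submodule.mem_top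

theorem proj_mem (n : ℕ) :
    ((JR J • (⊤ : Submodule (RA J) ↥(ReesM J M))).restrictScalars B) ≤
      (J • (⊤ : Submodule B ↥(J ^ n • (⊤ : Submodule B M)))).comap (proj J M n) := by
  rw [JR, Ideal.smul_restrictScalars, Submodule.smul_le]
  intro a ha x _
  rw [Submodule.mem_comap, _root_.map_smul]
  exact Submodule.smul_mem_smul ha Submodule.mem_top

/-- `G n → Q` -/
noncomputable def inclQ (n : ℕ) : G J M n →ₗ[B] Q J M :=
  (Submodule.Quotient.restrictScalarsEquiv B
      (JR J • (⊤ : Submodule (RA J) ↥(ReesM J M)))).toLinearMap ∘ₗ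
    Submodule.mapQ _ _ (incl J M n) (incl_mem J M n)

/-- `Q → G n` -/
noncomputable def projQ (n : ℕ) : Q J M →ₗ[B] G J M n :=
  Submodule.mapQ _ _ (proj J M n) (proj_mem J M n) ∘ₗ
    (Submodule.Quotient.restrictScalarsEquiv B
      (JR J • (⊤ : Submodule (RA J) ↥(ReesM J M)))).symm.toLinearMap

theorem projQ_inclQ (n : ℕ) (g : G J M n) : projQ J M n (inclQ J M n g) = g := by
  obtain ⟨m, rfl⟩ := Submodule.Quotient.mk_surjective _ g
  simp [projQ, inclQ, proj_incl]

end Rees

section Main

variable {B : Type u} [CommRing B] [IsNoetherianRing B] (J : Ideal B)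
  (M : Type u) [AddCommGroup M] [Module B M] [Module.Finite B M]

theorem reesM_fg : (ReesM J M).FG := by
  haveI : IsNoetherian B M := isNoetherian_of_isNoetherianRing_of_finite B M
  apply submod_fg
  rw [Ideal.Filtration.submodule_fg_iff_stable]
  · exact J.stableFiltration_stable ⊤
  · intro i
    exact IsNoetherian.noetherian _

instance : Algebra.FiniteType B (RA J) :=
  (Subalgebra.fg_iff_finiteType (reesAlgebra J)).mp (reesAlgebra.fg (IsNoetherian.noetherian J))

/-- **Generic flatness of the graded pieces** `J^n M / J^{n+1} M`, uniformly in `n`. -/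
theorem exists_flat_graded_pieces
    (D : Type u) [CommRing D] [IsDomain D] [Algebra D (B ⧸ J)] [Algebra.FiniteType D (B ⧸ J)] :
    ∃ d : D, d ≠ 0 ∧ ∀ (A' : Type u) [CommRing A'] [Algebra D A'] [Module.Flat D A'],
      IsUnit (algebraMap D A' d) →
      ∀ (n : ℕ) [Module D (G J M n)] [IsScalarTower D (B ⧸ J) (G J M n)],
        Module.Flat A' (A' ⊗[D] G J M n) := by
  classical
  let S := RA J ⧸ JR J
  letI algDS : Algebra D S := ((algebraMap (B ⧸ J) S).comp (algebraMap D (B ⧸ J))).toAlgebra
  haveI : IsScalarTower D (B ⧸ J) S := IsScalarTower.of_algebraMap_eq fun _ => rfl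
  haveI : Algebra.FiniteType B S :=
    Algebra.FiniteType.of_surjective (Ideal.Quotient.mkₐ B (JR J))
      (Ideal.Quotient.mkₐ_surjective B (JR J))
  haveI : Algebra.FiniteType (B ⧸ J) S :=
    Algebra.FiniteType.of_restrictScalars_finiteType B (B ⧸ J) S
  haveI : Algebra.FiniteType D S := Algebra.FiniteType.trans (S := B ⧸ J) inferInstance inferInstance
  haveI : Module.Finite (RA J) ↥(ReesM J M) := Module.Finite.iff_fg.mpr (reesM_fg J M)
  haveI : Module.Finite S (Q J M) := Module.Finite.of_restrictScalars_finite (RA J) S (Q J M)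
  letI modDQ : Module D (Q J M) := Module.compHom (Q J M) (algebraMap D S)
  haveI : IsScalarTower D S (Q J M) :=
    ⟨fun c s q => by
      change (algebraMap D S c * s) • q = algebraMap D S c • (s • q)
      rw [mul_smul]⟩
  obtain ⟨d, hd, hfree⟩ := Groth.Agent.H17.genFree_of_finite_of_finiteType D S (Q J M)
  refine ⟨d, hd, fun A' _ _ _ hu n _ _ => ?_⟩
  haveI := hfree A' hu
  have keyG : ∀ (c : D) (b : B), algebraMap D (B ⧸ J) c = Ideal.Quotient.mk J b →
      ∀ g : G J M n, c • g = b • g := by
    intro c b hcb g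
    rw [← algebraMap_smul (B ⧸ J) c g, hcb, ← Ideal.Quotient.algebraMap_eq, algebraMap_smul]
  have keyQ : ∀ (c : D) (b : B), algebraMap D (B ⧸ J) c = Ideal.Quotient.mk J b →
      ∀ q : Q J M, c • q = b • q := by
    intro c b hcb q
    change algebraMap (B ⧸ J) S (algebraMap D (B ⧸ J) c) • q = b • q
    rw [hcb]
    change (Ideal.Quotient.mk (JR J) (algebraMap B (RA J) b)) • q = b • q
    rw [← Ideal.Quotient.algebraMap_eq, algebraMap_smul, algebraMap_smul]
  let i : G J M n →ₗ[D] Q J M :=
    { toFun := inclQ J M n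
      map_add' := map_add _
      map_smul' := fun c g => by
        obtain ⟨b, hb⟩ := Ideal.Quotient.mk_surjective (algebraMap D (B ⧸ J) c)
        rw [keyG c b hb.symm, _root_.map_smul, RingHom.id_apply, keyQ c b hb.symm] }
  let r : Q J M →ₗ[D] G J M n :=
    { toFun := projQ J M n
      map_add' := map_add _
      map_smul' := fun c q => by
        obtain ⟨b, hb⟩ := Ideal.Quotient.mk_surjective (algebraMap D (B ⧸ J) c)
        rw [keyQ c b hb.symm, _root_.map_smul, RingHom.id_apply, keyG c b hb.symm] }
  have hri : r ∘ₗ i = LinearMap.id := LinearMap.ext (projQ_inclQ J M n)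
  refine Module.Flat.of_retract (M := A' ⊗[D] Q J M) (i.baseChange A') (r.baseChange A') ?_
  rw [← LinearMap.baseChange_comp, hri, LinearMap.baseChange_id]

end Main

end Groth.Agent.H70.GrFree
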