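import Mathlib

set_option autoImplicit false
set_option linter.style.haveILetI false

/-!
# Localization and reduction mod an ideal (helper70)

If `N → N₁` is a localization at `S ⊆ A` and `A₁ = S⁻¹A`, then
`N₁ / I₁ N₁ ≃ (A₁/I₁) ⊗[A/I] (N / I N)`.
-/

namespace Groth.Agent.H70.GrFree

open TensorProduct

universe u

section

variable {A : Type u} [CommRing A] (S : Submonoid A) (A₁ : Type u) [CommRing A₁] [Algebra A A₁]
  [IsLocalization S A₁] (I : Ideal A)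
  {N N₁ : Type u} [AddCommGroup N] [Module A N] [AddCommGroup N₁] [Module A N₁] [Module A₁ N₁]
  [IsScalarTower A A₁ N₁] (φ : N →ₗ[A] N₁) [IsLocalizedModule S φ]

/-- `N₁ / I₁ N₁ ≃ (A₁/I₁) ⊗[A/I] (N / I N)` for a localization `N → N₁`. -/
noncomputable def quotLocEquiv :
    (N₁ ⧸ (I.map (algebraMap A A₁)) • (⊤ : Submodule A₁ N₁)) ≃ₗ[A₁ ⧸ I.map (algebraMap A A₁)]
      (A₁ ⧸ I.map (algebraMap A A₁)) ⊗[A ⧸ I] (N ⧸ I • (⊤ : Submodule A N)) := by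
  let I₁ := I.map (algebraMap A A₁)
  let A' := A₁ ⧸ I₁
  let Ā := A ⧸ I
  let e1 : (N₁ ⧸ I₁ • (⊤ : Submodule A₁ N₁)) ≃ₗ[A'] A' ⊗[A₁] N₁ :=
    ((TensorProduct.quotTensorEquivQuotSMul N₁ I₁).symm).extendScalarsOfSurjective
      Ideal.Quotient.mk_surjective
  let e0 : A₁ ⊗[A] N ≃ₗ[A₁] N₁ := (IsLocalizedModule.isBaseChange S A₁ φ).equiv
  let e2 : A' ⊗[A₁] N₁ ≃ₗ[A'] A' ⊗[A₁] (A₁ ⊗[A] N) :=
    TensorProduct.AlgebraTensorModule.congr (LinearEquiv.refl A' A') e0.symm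
  let e3 : A' ⊗[A₁] (A₁ ⊗[A] N) ≃ₗ[A'] A' ⊗[A] N :=
    TensorProduct.AlgebraTensorModule.cancelBaseChange A A₁ A' A' N
  let e4 : A' ⊗[A] N ≃ₗ[A'] A' ⊗[Ā] (Ā ⊗[A] N) :=
    (TensorProduct.AlgebraTensorModule.cancelBaseChange A Ā A' A' N).symm
  let e5' : Ā ⊗[A] N ≃ₗ[Ā] (N ⧸ I • (⊤ : Submodule A N)) :=
    (TensorProduct.quotTensorEquivQuotSMul N I).extendScalarsOfSurjective
      Ideal.Quotient.mk_surjective
  let e5 : A' ⊗[Ā] (Ā ⊗[A] N) ≃ₗ[A'] A' ⊗[Ā] (N ⧸ I • (⊤ : Submodule A N)) :=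
    TensorProduct.AlgebraTensorModule.congr (LinearEquiv.refl A' A') e5'
  exact e1 ≪≫ₗ e2 ≪≫ₗ e3 ≪≫ₗ e4 ≪≫ₗ e5

include S φ in
theorem flat_quotient_of_isLocalizedModule
    (h : Module.Flat (A₁ ⧸ I.map (algebraMap A A₁))
      ((A₁ ⧸ I.map (algebraMap A A₁)) ⊗[A ⧸ I] (N ⧸ I • (⊤ : Submodule A N)))) :
    Module.Flat (A₁ ⧸ I.map (algebraMap A A₁))
      (N₁ ⧸ (I.map (algebraMap A A₁)) • (⊤ : Submodule A₁ N₁)) :=
  Module.Flat.of_linearEquiv (quotLocEquiv S A₁ I φ)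

end

end Groth.Agent.H70.GrFree
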