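import Mathlib
import Groth.Agent.H70.GrFree.Core
import Groth.Agent.H70.GrFree.Loc

set_option autoImplicit false
set_option linter.style.haveILetI false

/-!
# Generic normal flatness (helper70)
-/

namespace Groth.Agent.H70.GrFree

open TensorProduct

universe u

section

variable {A : Type u} [CommRing A] (S : Submonoid A) (A₁ : Type u) [CommRing A₁] [Algebra A A₁]
  [IsLocalization S A₁]
  {M M₁ : Type u} [AddCommGroup M] [Module A M] [AddCommGroup M₁] [Module A M₁] [Module A₁ M₁]
  [IsScalarTower A A₁ M₁] (f : M →ₗ[A] M₁) [IsLocalizedModule S f]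

theorem localized'_pow_smul_top (I : Ideal A) (n : ℕ) :
    (I ^ n • (⊤ : Submodule A M)).localized' A₁ S f =
      (I.map (algebraMap A A₁)) ^ n • (⊤ : Submodule A₁ M₁) := by
  rw [Submodule.localized'_smul, Submodule.localized'_top, Ideal.localized'_eq_map, Ideal.map_pow]

/-- the localization map `I^n M → I₁^n M₁` -/
noncomputable def powMap (I : Ideal A) (n : ℕ) :
    ↥(I ^ n • (⊤ : Submodule A M)) →ₗ[A]
      ↥((I.map (algebraMap A A₁)) ^ n • (⊤ : Submodule A₁ M₁)) :=
  ((LinearEquiv.ofEq _ _ (localized'_pow_smul_top S A₁ f I n)).restrictScalars A).toLinearMap ∘ₗ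
    (I ^ n • (⊤ : Submodule A M)).toLocalized' A₁ S f

instance (I : Ideal A) (n : ℕ) : IsLocalizedModule S (powMap S A₁ f I n) := by
  unfold powMap
  exact IsLocalizedModule.of_linearEquiv S _ _

end

/-- **Generic normal flatness**. -/
theorem exists_isNormallyFlat (A : Type u) [CommRing A] [IsNoetherianRing A] (p : Ideal A)
    [p.IsPrime] (M : Type u) [AddCommGroup M] [Module A M] [Module.Finite A M] :
    ∃ f : A, f ∉ p ∧ ∀ n : ℕ,
      Module.Flat (Localization.Away f ⧸ p.map (algebraMap A (Localization.Away f)))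
        (↥((p.map (algebraMap A (Localization.Away f))) ^ n •
            (⊤ : Submodule (Localization.Away f) (LocalizedModule (Submonoid.powers f) M))) ⧸
          ((p.map (algebraMap A (Localization.Away f))) •
            (⊤ : Submodule (Localization.Away f)
              ↥((p.map (algebraMap A (Localization.Away f))) ^ n •
                (⊤ : Submodule (Localization.Away f)
                  (LocalizedModule (Submonoid.powers f) M)))))) := by
  obtain ⟨d, hd, H⟩ := exists_flat_graded_pieces p M (A ⧸ p)
  obtain ⟨f, rfl⟩ := Ideal.Quotient.mk_surjective d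
  have hf : f ∉ p := fun h => hd (Ideal.Quotient.eq_zero_iff_mem.mpr h)
  refine ⟨f, hf, fun n => ?_⟩
  let A₁ := Localization.Away f
  let p₁ := p.map (algebraMap A A₁)
  haveI : Module.Flat (A ⧸ p) (A₁ ⧸ p₁) :=
    IsLocalization.flat (A₁ ⧸ p₁) (Algebra.algebraMapSubmonoid (A ⧸ p) (Submonoid.powers f))
  have hu : IsUnit (algebraMap (A ⧸ p) (A₁ ⧸ p₁) (Ideal.Quotient.mk p f)) := by
    have : IsUnit (algebraMap A A₁ f) := IsLocalization.Away.algebraMap_isUnit f
    exact this.map (Ideal.Quotient.mk p₁)
  have h1 := H (A₁ ⧸ p₁) hu n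
  exact flat_quotient_of_isLocalizedModule (Submonoid.powers f) A₁ p
    (powMap (Submonoid.powers f) A₁ (LocalizedModule.mkLinearMap (Submonoid.powers f) M) p n) h1

end Groth.Agent.H70.GrFree
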