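import Mathlib

set_option autoImplicit false
set_option linter.style.haveILetI false

/-!
# Base change of sub-quotients `X / X'` presented as `Submodule.map X'.mkQ X` (helper70)
-/

namespace Groth.Agent.H70.GrFree

open TensorProduct

universe u

section Congr

variable {R : Type*} [CommRing R] {N₁ N₂ : Type*} [AddCommGroup N₁] [Module R N₁]
  [AddCommGroup N₂] [Module R N₂]

/-- transport of a subquotient along an isomorphism -/
noncomputable def subQuotCongr (θ : N₁ ≃ₗ[R] N₂) (X₁ X₁' : Submodule R N₁)
    (X₂ X₂' : Submodule R N₂)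
    (h : X₁.map θ.toLinearMap = X₂) (h' : X₁'.map θ.toLinearMap = X₂') :
    ↥(X₁.map X₁'.mkQ) ≃ₗ[R] ↥(X₂.map X₂'.mkQ) :=
  ((Submodule.Quotient.equiv X₁' X₂' θ h').submoduleMap (X₁.map X₁'.mkQ)).trans
    (LinearEquiv.ofEq _ _ (by
      rw [← h, ← Submodule.map_comp, ← Submodule.map_comp]
      congr 1))

end Congr

section BaseChangeMap

variable {R : Type*} [CommRing R] (A : Type*) [CommRing A] [Algebra R A]
  {M N : Type*} [AddCommGroup M] [Module R M] [AddCommGroup N] [Module R N]

theorem baseChange_map (f : M →ₗ[R] N) (p : Submodule R M) :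
    (p.map f).baseChange A = (p.baseChange A).map (f.baseChange A) := by
  rw [Submodule.baseChange_eq_span, Submodule.baseChange_eq_span, Submodule.map_span,
    Submodule.map_coe, Submodule.map_coe, Submodule.map_coe, ← Set.image_comp, ← Set.image_comp]
  congr 1

end BaseChangeMap

section Flat

variable {C : Type u} [CommRing C] (C' : Type u) [CommRing C'] [Algebra C C']
  {N : Type u} [AddCommGroup N] [Module C N] (X X' : Submodule C N)

theorem ker_baseChange_mkQ :
    LinearMap.ker (X'.mkQ.baseChange C') = X'.baseChange C' := by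
  have hex : Function.Exact (X'.subtype.lTensor C') (X'.mkQ.lTensor C') :=
    lTensor_exact C' (LinearMap.exact_subtype_mkQ X') X'.mkQ_surjective
  have h1 : LinearMap.ker (X'.mkQ.lTensor C') = LinearMap.range (X'.subtype.lTensor C') :=
    (LinearMap.exact_iff.mp hex)
  ext t
  have h2 := congrArg (fun S => t ∈ S) h1
  simp only [LinearMap.mem_ker, LinearMap.mem_range] at h2
  rw [LinearMap.mem_ker, Submodule.baseChange, LinearMap.mem_range]
  exact h2 ▸ Iff.rfl

theorem baseChange_mkQ_surjective : Function.Surjective (X'.mkQ.baseChange C') :=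
  LinearMap.lTensor_surjective C' X'.mkQ_surjective

/-- `(C' ⊗ N) / (C' ⊗ X') ≃ C' ⊗ (N / X')`, `C'`-linearly. -/
noncomputable def quotBaseChangeEquiv :
    ((C' ⊗[C] N) ⧸ X'.baseChange C') ≃ₗ[C'] C' ⊗[C] (N ⧸ X') :=
  (Submodule.quotEquivOfEq _ _ (ker_baseChange_mkQ C' X').symm).trans
    (LinearMap.quotKerEquivOfSurjective (X'.mkQ.baseChange C') (baseChange_mkQ_surjective C' X'))

theorem quotBaseChangeEquiv_comp_mkQ :
    (quotBaseChangeEquiv C' X').toLinearMap ∘ₗ (X'.baseChange C').mkQ = X'.mkQ.baseChange C' := by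
  ext t
  rfl

variable [Module.Flat C C']

/-- flat base change of a sub-quotient -/
noncomputable def subQuotBaseChangeEquiv :
    ↥((X.baseChange C').map (X'.baseChange C').mkQ) ≃ₗ[C'] C' ⊗[C] ↥(X.map X'.mkQ) := by
  let W := X.map X'.mkQ
  let ē := quotBaseChangeEquiv C' X'
  let e1 := ē.submoduleMap ((X.baseChange C').map (X'.baseChange C').mkQ)
  have himg : ((X.baseChange C').map (X'.baseChange C').mkQ).map ē.toLinearMap =
      W.baseChange C' := by
    rw [← Submodule.map_comp, quotBaseChangeEquiv_comp_mkQ, ← baseChange_map]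
  have hinj : Function.Injective (W.subtype.baseChange C') :=
    Module.Flat.lTensor_preserves_injective_linearMap (M := C') W.subtype W.subtype_injective
  let e2 : C' ⊗[C] W ≃ₗ[C'] ↥(LinearMap.range (W.subtype.baseChange C')) :=
    LinearEquiv.ofInjective (W.subtype.baseChange C') hinj
  exact e1.trans ((LinearEquiv.ofEq _ _ himg).trans e2.symm)

end Flat

section Tower

variable (A₀ : Type u) [CommRing A₀] (C C' : Type u) [CommRing C] [CommRing C'] [Algebra A₀ C]
  [Algebra A₀ C'] [Algebra C C'] [IsScalarTower A₀ C C']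
  {M₀ : Type u} [AddCommGroup M₀] [Module A₀ M₀] (P P' : Submodule A₀ M₀)

theorem map_cancelBaseChange_baseChange :
    ((P.baseChange C).baseChange C').map
      (TensorProduct.AlgebraTensorModule.cancelBaseChange A₀ C C' C' M₀).toLinearMap =
      P.baseChange C' := by
  rw [Submodule.baseChange_eq_span (A := C) P, Submodule.baseChange_span, Submodule.map_span,
    Submodule.baseChange_eq_span (A := C') P]
  congr 1
  ext t
  constructor
  · rintro ⟨_, ⟨_, ⟨m, hm, rfl⟩, rfl⟩, rfl⟩
    exact ⟨m, hm, by simp⟩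
  · rintro ⟨m, hm, rfl⟩
    exact ⟨_, ⟨_, ⟨m, hm, rfl⟩, rfl⟩, by simp⟩

theorem map_cancelBaseChange_symm_baseChange :
    (P.baseChange C').map
      (TensorProduct.AlgebraTensorModule.cancelBaseChange A₀ C C' C' M₀).symm.toLinearMap =
      (P.baseChange C).baseChange C' := by
  rw [← map_cancelBaseChange_baseChange A₀ C C' P, ← Submodule.map_comp]
  simp

variable [Module.Flat C C']

/-- base change of the sub-quotient along a flat map `C → C'` of `A₀`-algebras -/
noncomputable def subQuotTowerEquiv :
    ↥((P.baseChange C').map (P'.baseChange C').mkQ) ≃ₗ[C']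
      C' ⊗[C] ↥((P.baseChange C).map (P'.baseChange C).mkQ) :=
  (subQuotCongr (TensorProduct.AlgebraTensorModule.cancelBaseChange A₀ C C' C' M₀).symm _ _ _ _
    (map_cancelBaseChange_symm_baseChange A₀ C C' P)
    (map_cancelBaseChange_symm_baseChange A₀ C C' P')).trans
    (subQuotBaseChangeEquiv C' (P.baseChange C) (P'.baseChange C))

end Tower

end Groth.Agent.H70.GrFree
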