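import Mathlib
import Groth.Agent.H70.GrFree.SubQuot

set_option autoImplicit false
set_option linter.style.haveILetI false

/-!
# The sub-quotient `X/X'` after base change to a quotient ring `A₀ ⧸ 𝔭` (helper70)
-/

namespace Groth.Agent.H70.GrFree

open TensorProduct

universe u

section TwoSurj

variable {R : Type*} [CommRing R] {P Y G : Type*} [AddCommGroup P] [Module R P]
  [AddCommGroup Y] [Module R Y] [AddCommGroup G] [Module R G]

/-- two surjections with the same kernel have isomorphic targets -/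
noncomputable def equivOfSurjOfKerEq (f : P →ₗ[R] Y) (g : P →ₗ[R] G)
    (hf : Function.Surjective f) (hg : Function.Surjective g)
    (h : LinearMap.ker f = LinearMap.ker g) : Y ≃ₗ[R] G :=
  (f.quotKerEquivOfSurjective hf).symm ≪≫ₗ Submodule.quotEquivOfEq _ _ h ≪≫ₗ
    g.quotKerEquivOfSurjective hg

@[simp] theorem equivOfSurjOfKerEq_apply (f : P →ₗ[R] Y) (g : P →ₗ[R] G)
    (hf : Function.Surjective f) (hg : Function.Surjective g)
    (h : LinearMap.ker f = LinearMap.ker g) (p : P) :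
    equivOfSurjOfKerEq f g hf hg h (f p) = g p := by
  unfold equivOfSurjOfKerEq
  have : (f.quotKerEquivOfSurjective hf).symm (f p) = Submodule.Quotient.mk p := by
    rw [LinearEquiv.symm_apply_eq]
    rfl
  simp only [LinearEquiv.trans_apply, this]
  rfl

end TwoSurj

section SigmaY

variable {A₀ : Type u} [CommRing A₀] (𝔭 : Ideal A₀) {M₀ : Type u} [AddCommGroup M₀] [Module A₀ M₀]
  (P P' : Submodule A₀ M₀)

theorem one_tmul_mem_baseChange_iff (m : M₀) :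
    (1 : A₀ ⧸ 𝔭) ⊗ₜ[A₀] m ∈ P'.baseChange (A₀ ⧸ 𝔭) ↔ m ∈ P' ⊔ 𝔭 • (⊤ : Submodule A₀ M₀) := by
  constructor
  · intro h
    let e := TensorProduct.quotTensorEquivQuotSMul M₀ 𝔭
    let φ : (A₀ ⧸ 𝔭) ⊗[A₀] M₀ →ₗ[A₀]
        (M₀ ⧸ 𝔭 • (⊤ : Submodule A₀ M₀)) ⧸ (P'.map (𝔭 • (⊤ : Submodule A₀ M₀)).mkQ) :=
      (P'.map (𝔭 • (⊤ : Submodule A₀ M₀)).mkQ).mkQ ∘ₗ e.toLinearMap
    have hφ : ∀ t ∈ P'.baseChange (A₀ ⧸ 𝔭), φ t = 0 := by
      intro t ht
      rw [Submodule.baseChange_eq_span] at ht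
      induction ht using Submodule.span_induction with
      | mem x hx =>
        obtain ⟨p', hp', rfl⟩ := hx
        change (P'.map (𝔭 • (⊤ : Submodule A₀ M₀)).mkQ).mkQ (e ((1 : A₀ ⧸ 𝔭) ⊗ₜ[A₀] p')) = 0
        rw [Submodule.mkQ_apply, Submodule.Quotient.mk_eq_zero]
        refine ⟨p', hp', ?_⟩
        have := TensorProduct.quotTensorEquivQuotSMul_mk_tmul (M := M₀) 𝔭 1 p'
        rw [map_one, one_smul] at this
        exact this.symm
      | zero => exact map_zero _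
      | add x y _ _ hx hy => rw [map_add, hx, hy, add_zero]
      | smul c x _ hx =>
        obtain ⟨a, rfl⟩ := Ideal.Quotient.mk_surjective c
        have : (Ideal.Quotient.mk 𝔭 a) • x = a • x := by
          rw [← Ideal.Quotient.algebraMap_eq, algebraMap_smul]
        rw [this, map_smul, hx, smul_zero]
    have h0 := hφ _ h
    change (P'.map (𝔭 • (⊤ : Submodule A₀ M₀)).mkQ).mkQ (e ((1 : A₀ ⧸ 𝔭) ⊗ₜ[A₀] m)) = 0 at h0
    rw [Submodule.mkQ_apply, Submodule.Quotient.mk_eq_zero] at h0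
    have hm := TensorProduct.quotTensorEquivQuotSMul_mk_tmul (M := M₀) 𝔭 1 m
    rw [map_one, one_smul] at hm
    rw [hm] at h0
    have h1 : m ∈ (P'.map (𝔭 • (⊤ : Submodule A₀ M₀)).mkQ).comap
        (𝔭 • (⊤ : Submodule A₀ M₀)).mkQ := h0
    rw [Submodule.comap_map_mkQ] at h1
    rwa [sup_comm]
  · intro h
    obtain ⟨p', hp', z, hz, rfl⟩ := Submodule.mem_sup.mp h
    rw [tmul_add]
    refine Submodule.add_mem _ (Submodule.tmul_mem_baseChange_of_mem 1 hp') ?_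
    have : (1 : A₀ ⧸ 𝔭) ⊗ₜ[A₀] z = 0 := by
      refine Submodule.smul_induction_on hz ?_ ?_
      · intro a ha x _
        rw [tmul_smul, smul_tmul', Algebra.smul_def, mul_one, Ideal.Quotient.algebraMap_eq,
          Ideal.Quotient.eq_zero_iff_mem.mpr ha, zero_tmul]
      · intro x y hx hy
        rw [tmul_add, hx, hy, add_zero]
    rw [this]
    exact Submodule.zero_mem _

/-- `p ↦ [1 ⊗ p]` -/
noncomputable def sigmaY :
    ↥P →ₗ[A₀] ↥((P.baseChange (A₀ ⧸ 𝔭)).map (P'.baseChange (A₀ ⧸ 𝔭)).mkQ) where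
  toFun p := ⟨(P'.baseChange (A₀ ⧸ 𝔭)).mkQ ((1 : A₀ ⧸ 𝔭) ⊗ₜ[A₀] (p : M₀)),
    ⟨_, Submodule.tmul_mem_baseChange_of_mem 1 p.2, rfl⟩⟩
  map_add' x y := by
    apply Subtype.ext
    simp [tmul_add]
  map_smul' c x := by
    apply Subtype.ext
    simp [tmul_smul]

theorem exists_one_tmul {N : Type*} [AddCommGroup N] [Module A₀ N] (s : (A₀ ⧸ 𝔭) ⊗[A₀] N) :
    ∃ n : N, s = (1 : A₀ ⧸ 𝔭) ⊗ₜ[A₀] n := by
  induction s using TensorProduct.induction_on with
  | zero => exact ⟨0, (tmul_zero _ _).symm⟩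
  | tmul c n =>
    obtain ⟨a, rfl⟩ := Ideal.Quotient.mk_surjective c
    refine ⟨a • n, ?_⟩
    rw [tmul_smul, smul_tmul', Algebra.smul_def, mul_one, Ideal.Quotient.algebraMap_eq]
  | add x y hx hy =>
    obtain ⟨n₁, rfl⟩ := hx
    obtain ⟨n₂, rfl⟩ := hy
    exact ⟨n₁ + n₂, (tmul_add _ _ _).symm⟩

theorem sigmaY_surjective : Function.Surjective (sigmaY 𝔭 P P') := by
  rintro ⟨_, t, ht, rfl⟩
  obtain ⟨s, rfl⟩ := ht
  obtain ⟨p, rfl⟩ := exists_one_tmul 𝔭 s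
  exact ⟨p, Subtype.ext rfl⟩

theorem ker_sigmaY :
    LinearMap.ker (sigmaY 𝔭 P P') = (P' ⊔ 𝔭 • (⊤ : Submodule A₀ M₀)).comap P.subtype := by
  ext p
  rw [LinearMap.mem_ker, Submodule.mem_comap, Submodule.subtype_apply,
    ← one_tmul_mem_baseChange_iff 𝔭 P' (p : M₀)]
  constructor
  · intro h
    have h1 := congrArg Subtype.val h
    change (P'.baseChange (A₀ ⧸ 𝔭)).mkQ ((1 : A₀ ⧸ 𝔭) ⊗ₜ[A₀] (p : M₀)) = 0 at h1
    rwa [Submodule.mkQ_apply, Submodule.Quotient.mk_eq_zero] at h1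
  · intro h
    apply Subtype.ext
    change (P'.baseChange (A₀ ⧸ 𝔭)).mkQ ((1 : A₀ ⧸ 𝔭) ⊗ₜ[A₀] (p : M₀)) = 0
    rwa [Submodule.mkQ_apply, Submodule.Quotient.mk_eq_zero]

end SigmaY

end Groth.Agent.H70.GrFree
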