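import Mathlib
import Groth.Agent.H70.GrFree.Core
import Groth.Agent.H70.GrFree.QuotStep

set_option autoImplicit false
set_option linter.style.haveILetI false

/-!
# The generic step for the stratification with flat graded quotients (helper70)
-/

namespace Groth.Agent.H70.GrFree

open TensorProduct

universe u

section Setting

variable {A₀ : Type u} [CommRing A₀] (B₀ : Type u) [CommRing B₀] [Algebra A₀ B₀]
  (J₀ : Ideal B₀) (M₀ : Type u) [AddCommGroup M₀] [Module B₀ M₀] [Module A₀ M₀]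
  [IsScalarTower A₀ B₀ M₀] (𝔭 : Ideal A₀)

/-- the extension of `𝔭` to `B₀` -/
abbrev pB : Ideal B₀ := 𝔭.map (algebraMap A₀ B₀)

/-- `J₀ + 𝔭 B₀` -/
abbrev JJ : Ideal B₀ := J₀ ⊔ pB B₀ 𝔭

/-- `M₀ / 𝔭 M₀` as a `B₀`-module -/
abbrev Mbar : Type u := M₀ ⧸ (pB B₀ 𝔭 • (⊤ : Submodule B₀ M₀))

variable (A₀) in
/-- the `A₀`-submodule `J₀^n M₀` -/
abbrev Pn (n : ℕ) : Submodule A₀ M₀ := (J₀ ^ n • (⊤ : Submodule B₀ M₀)).restrictScalars A₀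

theorem pB_smul_top_Mbar :
    pB B₀ 𝔭 • (⊤ : Submodule B₀ (Mbar B₀ M₀ 𝔭)) = ⊥ := by
  rw [eq_bot_iff, Submodule.smul_le]
  intro b hb x _
  obtain ⟨m, rfl⟩ := Submodule.Quotient.mk_surjective _ x
  rw [Submodule.mem_bot, ← Submodule.Quotient.mk_smul, Submodule.Quotient.mk_eq_zero]
  exact Submodule.smul_mem_smul hb Submodule.mem_top

theorem JJ_pow_smul_top (n : ℕ) :
    JJ B₀ J₀ 𝔭 ^ n • (⊤ : Submodule B₀ (Mbar B₀ M₀ 𝔭)) = J₀ ^ n • (⊤ : Submodule B₀ (Mbar B₀ M₀ 𝔭)) := by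
  induction n with
  | zero => simp
  | succ n ih =>
    rw [pow_succ', mul_smul, ih, pow_succ', mul_smul, Submodule.sup_smul]
    have : pB B₀ 𝔭 • J₀ ^ n • (⊤ : Submodule B₀ (Mbar B₀ M₀ 𝔭)) = ⊥ := by
      rw [eq_bot_iff, ← pB_smul_top_Mbar B₀ M₀ 𝔭]
      exact Submodule.smul_mono le_rfl le_top
    rw [this, sup_bot_eq]

theorem map_mkQ_pow_smul_top (n : ℕ) :
    (J₀ ^ n • (⊤ : Submodule B₀ M₀)).map (pB B₀ 𝔭 • (⊤ : Submodule B₀ M₀)).mkQ =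
      JJ B₀ J₀ 𝔭 ^ n • (⊤ : Submodule B₀ (Mbar B₀ M₀ 𝔭)) := by
  rw [JJ_pow_smul_top, Submodule.map_smul'', Submodule.map_top, Submodule.range_mkQ]

theorem mkQ_mem (n : ℕ) (p : ↥(Pn A₀ B₀ J₀ M₀ n)) :
    (pB B₀ 𝔭 • (⊤ : Submodule B₀ M₀)).mkQ (p : M₀) ∈
      JJ B₀ J₀ 𝔭 ^ n • (⊤ : Submodule B₀ (Mbar B₀ M₀ 𝔭)) := by
  rw [← map_mkQ_pow_smul_top]
  exact ⟨p.1, p.2, rfl⟩

/-- `p ↦ [π p]` -/
noncomputable def sigmaG (n : ℕ) :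
    ↥(Pn A₀ B₀ J₀ M₀ n) →ₗ[A₀] G (JJ B₀ J₀ 𝔭) (Mbar B₀ M₀ 𝔭) n where
  toFun p := Submodule.Quotient.mk
    ⟨(pB B₀ 𝔭 • (⊤ : Submodule B₀ M₀)).mkQ (p : M₀), mkQ_mem B₀ J₀ M₀ 𝔭 n p⟩
  map_add' x y := by
    rw [← Submodule.Quotient.mk_add]
    congr 1
  map_smul' c x := by
    rw [RingHom.id_apply, ← Submodule.Quotient.mk_smul]
    congr 1

theorem sigmaG_surjective (n : ℕ) : Function.Surjective (sigmaG B₀ J₀ M₀ 𝔭 n) := by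
  intro g
  obtain ⟨⟨y, hy⟩, rfl⟩ := Submodule.Quotient.mk_surjective _ g
  rw [← map_mkQ_pow_smul_top] at hy
  obtain ⟨p, hp, rfl⟩ := hy
  exact ⟨⟨p, hp⟩, rfl⟩

theorem ker_sigmaG (n : ℕ) :
    LinearMap.ker (sigmaG B₀ J₀ M₀ 𝔭 n) =
      (Pn A₀ B₀ J₀ M₀ (n + 1) ⊔ 𝔭 • (⊤ : Submodule A₀ M₀)).comap (Pn A₀ B₀ J₀ M₀ n).subtype := by
  ext p
  rw [LinearMap.mem_ker, Submodule.mem_comap, Submodule.subtype_apply]
  change Submodule.Quotient.mk _ = 0 ↔ _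
  rw [Submodule.Quotient.mk_eq_zero, Submodule.mem_smul_top_iff, ← mul_smul, ← pow_succ',
    ← map_mkQ_pow_smul_top, ← Submodule.mem_comap, Submodule.comap_map_mkQ]
  have h1 : (𝔭 • (⊤ : Submodule A₀ M₀)) =
      (pB B₀ 𝔭 • (⊤ : Submodule B₀ M₀)).restrictScalars A₀ := by
    rw [Ideal.smul_restrictScalars, Submodule.restrictScalars_top]
  rw [h1, sup_comm]
  constructor
  · intro h
    obtain ⟨x, hx, y, hy, hxy⟩ := Submodule.mem_sup.mp h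
    exact Submodule.mem_sup.mpr ⟨x, hx, y, hy, hxy⟩
  · intro h
    obtain ⟨x, hx, y, hy, hxy⟩ := Submodule.mem_sup.mp h
    exact Submodule.mem_sup.mpr ⟨x, hx, y, hy, hxy⟩

end Setting

section Gen

variable {A₀ : Type u} [CommRing A₀] [IsNoetherianRing A₀] (B₀ : Type u) [CommRing B₀]
  [Algebra A₀ B₀] [Algebra.FiniteType A₀ B₀]
  (J₀ : Ideal B₀) (M₀ : Type u) [AddCommGroup M₀] [Module B₀ M₀] [Module A₀ M₀]
  [IsScalarTower A₀ B₀ M₀] [Module.Finite B₀ M₀]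

/-- **Generic step**: for a prime `𝔭` of `A₀` there is `g ∉ 𝔭` such that over every flat
`A₀ ⧸ 𝔭`-algebra `A'` in which `g` is invertible, the graded quotients of `A' ⊗ M₀` are flat. -/
theorem exists_flat_subQuot (𝔭 : Ideal A₀) [𝔭.IsPrime] :
    ∃ g : A₀, g ∉ 𝔭 ∧ ∀ (A' : Type u) [CommRing A'] [Algebra A₀ A'] [Algebra (A₀ ⧸ 𝔭) A']
      [IsScalarTower A₀ (A₀ ⧸ 𝔭) A'] [Module.Flat (A₀ ⧸ 𝔭) A'],
      IsUnit (algebraMap A₀ A' g) → ∀ n : ℕ,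
      Module.Flat A' ↥(((Pn A₀ B₀ J₀ M₀ n).baseChange A').map
        ((Pn A₀ B₀ J₀ M₀ (n + 1)).baseChange A').mkQ) := by
  haveI : IsNoetherianRing B₀ := Algebra.FiniteType.isNoetherianRing A₀ B₀
  let J := JJ B₀ J₀ 𝔭
  have hle : 𝔭 ≤ J.comap (algebraMap A₀ B₀) :=
    fun a ha => Ideal.mem_sup_right (Ideal.mem_map_of_mem _ ha)
  letI alg : Algebra (A₀ ⧸ 𝔭) (B₀ ⧸ J) := Ideal.Quotient.algebraQuotientOfLEComap hle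
  haveI tw : IsScalarTower A₀ (A₀ ⧸ 𝔭) (B₀ ⧸ J) := IsScalarTower.of_algebraMap_eq (fun a => rfl)
  haveI : Algebra.FiniteType A₀ (B₀ ⧸ J) :=
    Algebra.FiniteType.of_surjective (Ideal.Quotient.mkₐ A₀ J) (Ideal.Quotient.mkₐ_surjective A₀ J)
  haveI : Algebra.FiniteType (A₀ ⧸ 𝔭) (B₀ ⧸ J) :=
    Algebra.FiniteType.of_restrictScalars_finiteType A₀ (A₀ ⧸ 𝔭) (B₀ ⧸ J)
  obtain ⟨d, hd, H⟩ := exists_flat_graded_pieces J (Mbar B₀ M₀ 𝔭) (A₀ ⧸ 𝔭)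
  obtain ⟨g, rfl⟩ := Ideal.Quotient.mk_surjective d
  refine ⟨g, fun h => hd (Ideal.Quotient.eq_zero_iff_mem.mpr h), fun A' _ _ _ _ _ hu n => ?_⟩
  letI modG : Module (A₀ ⧸ 𝔭) (G J (Mbar B₀ M₀ 𝔭) n) :=
    Module.compHom _ (algebraMap (A₀ ⧸ 𝔭) (B₀ ⧸ J))
  haveI : IsScalarTower (A₀ ⧸ 𝔭) (B₀ ⧸ J) (G J (Mbar B₀ M₀ 𝔭) n) :=
    ⟨fun c s q => by
      rw [Algebra.smul_def, mul_smul]
      rfl⟩
  haveI : IsScalarTower A₀ (A₀ ⧸ 𝔭) (G J (Mbar B₀ M₀ 𝔭) n) :=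
    ⟨fun a c q => by
      obtain ⟨c, rfl⟩ := Ideal.Quotient.mk_surjective c
      change algebraMap (A₀ ⧸ 𝔭) (B₀ ⧸ J) (a • Ideal.Quotient.mk 𝔭 c) • q =
        a • (algebraMap (A₀ ⧸ 𝔭) (B₀ ⧸ J) (Ideal.Quotient.mk 𝔭 c) • q)
      rw [Algebra.smul_def, map_mul, mul_smul]
      generalize algebraMap (A₀ ⧸ 𝔭) (B₀ ⧸ J) (Ideal.Quotient.mk 𝔭 c) • q = q'
      change (Ideal.Quotient.mk J (algebraMap A₀ B₀ a)) • q' = a • q'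
      rw [← Ideal.Quotient.algebraMap_eq, algebraMap_smul, algebraMap_smul]⟩
  have hu' : IsUnit (algebraMap (A₀ ⧸ 𝔭) A' (Ideal.Quotient.mk 𝔭 g)) := by
    rwa [← Ideal.Quotient.algebraMap_eq, ← IsScalarTower.algebraMap_apply A₀ (A₀ ⧸ 𝔭) A' g]
  have hflat := H A' hu' n
  let e0 := equivOfSurjOfKerEq (sigmaY 𝔭 (Pn A₀ B₀ J₀ M₀ n) (Pn A₀ B₀ J₀ M₀ (n + 1)))
    (sigmaG B₀ J₀ M₀ 𝔭 n) (sigmaY_surjective 𝔭 _ _) (sigmaG_surjective B₀ J₀ M₀ 𝔭 n)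
    (by rw [ker_sigmaY, ker_sigmaG])
  let e1 := e0.extendScalarsOfSurjective (S := A₀ ⧸ 𝔭) Ideal.Quotient.mk_surjective
  let e2 := TensorProduct.AlgebraTensorModule.congr (LinearEquiv.refl A' A') e1
  let e3 := subQuotTowerEquiv A₀ (A₀ ⧸ 𝔭) A' (Pn A₀ B₀ J₀ M₀ n) (Pn A₀ B₀ J₀ M₀ (n + 1))
  exact Module.Flat.of_linearEquiv (e3.trans e2)

end Gen

end Groth.Agent.H70.GrFree
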