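import Mathlib

set_option autoImplicit false
set_option linter.style.haveILetI false

/-!
# Abstract Noetherian stratification of `Spec A₀` by pieces `V(𝔭) ∩ D(h)` (helper70)
-/

namespace Groth.Agent.H70.GrFree

universe u

variable {A₀ : Type u} [CommRing A₀]

/-- the stratum `V(𝔭) ∩ D(h)` -/
def stratum (x : Ideal A₀ × A₀) : Set (PrimeSpectrum A₀) :=
  {q | x.1 ≤ q.asIdeal ∧ x.2 ∉ q.asIdeal}

theorem iUnion_cons {m : ℕ} (x : Ideal A₀ × A₀) (d : Fin m → Ideal A₀ × A₀) :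
    (⋃ i, stratum (Fin.cons (α := fun _ => Ideal A₀ × A₀) x d i)) =
      stratum x ∪ ⋃ i, stratum (d i) := by
  ext q
  simp only [Set.mem_iUnion, Set.mem_union, Fin.exists_fin_succ, Fin.cons_zero, Fin.cons_succ]

theorem iUnion_ge_cons_succ {m : ℕ} (x : Ideal A₀ × A₀) (d : Fin m → Ideal A₀ × A₀)
    (k : Fin m) :
    (⋃ j, ⋃ (_ : k.succ ≤ j), stratum (Fin.cons (α := fun _ => Ideal A₀ × A₀) x d j)) =
      ⋃ j, ⋃ (_ : k ≤ j), stratum (d j) := by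
  ext q
  simp only [Set.mem_iUnion, Fin.exists_fin_succ, Fin.cons_zero, Fin.cons_succ,
    Fin.succ_le_succ_iff, exists_prop]
  constructor
  · rintro (⟨h, _⟩ | h)
    · exact absurd h (Fin.succ_pos k).not_ge
    · exact h
  · intro h
    exact Or.inr h

theorem iUnion_ge_zero {m : ℕ} (d : Fin (m + 1) → Ideal A₀ × A₀) :
    (⋃ j, ⋃ (_ : (0 : Fin (m + 1)) ≤ j), stratum (d j)) = ⋃ j, stratum (d j) := by
  ext q
  simp only [Set.mem_iUnion, Fin.zero_le, exists_prop, true_and]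

/-- existence of `f` in all the other minimal primes but not in `𝔭` -/
theorem exists_mem_others_not_mem [IsNoetherianRing A₀] (I : Ideal A₀) (𝔭 : Ideal A₀)
    (h𝔭 : 𝔭 ∈ I.minimalPrimes) :
    ∃ f : A₀, f ∉ 𝔭 ∧ ∀ 𝔮 ∈ I.minimalPrimes, 𝔮 ≠ 𝔭 → f ∈ 𝔮 := by
  classical
  have hfin : (I.minimalPrimes).Finite := Ideal.finite_minimalPrimes_of_isNoetherianRing A₀ I
  let T : Finset (Ideal A₀) := hfin.toFinset.erase 𝔭
  haveI : 𝔭.IsPrime := h𝔭.1.1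
  have hnot : ¬ (T.inf id ≤ 𝔭) := by
    intro hle
    obtain ⟨𝔮, h𝔮T, h𝔮le⟩ := (Ideal.IsPrime.inf_le' ‹𝔭.IsPrime›).mp hle
    have h𝔮 : 𝔮 ∈ I.minimalPrimes := hfin.mem_toFinset.mp (Finset.mem_of_mem_erase h𝔮T)
    have hne : 𝔮 ≠ 𝔭 := Finset.ne_of_mem_erase h𝔮T
    have : 𝔭 ≤ 𝔮 := h𝔭.2 ⟨h𝔮.1.1, h𝔮.1.2⟩ h𝔮le
    exact hne (le_antisymm h𝔮le this)
  obtain ⟨f, hfT, hf𝔭⟩ := SetLike.not_le_iff_exists.mp hnot
  refine ⟨f, hf𝔭, fun 𝔮 h𝔮 hne => ?_⟩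
  have h𝔮T : 𝔮 ∈ T := Finset.mem_erase.mpr ⟨hne, hfin.mem_toFinset.mpr h𝔮⟩
  have : T.inf id ≤ id 𝔮 := Finset.inf_le h𝔮T
  exact this hfT

theorem exists_stratification [IsNoetherianRing A₀] (Φ : Ideal A₀ → A₀ → Prop)
    (hΦ : ∀ (𝔭 : Ideal A₀) [𝔭.IsPrime], ∃ g, g ∉ 𝔭 ∧ ∀ f, Φ 𝔭 (g * f)) (I : Ideal A₀) :
    ∃ (m : ℕ) (d : Fin m → Ideal A₀ × A₀),
      (∀ i, (d i).1.IsPrime ∧ Φ (d i).1 (d i).2) ∧
      (∀ i j, i ≠ j → Disjoint (stratum (d i)) (stratum (d j))) ∧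
      (⋃ i, stratum (d i) = PrimeSpectrum.zeroLocus (I : Set A₀)) ∧
      (∀ i, ∃ U : Set (PrimeSpectrum A₀), IsOpen U ∧
        U ∩ (⋃ j, ⋃ (_ : i ≤ j), stratum (d j)) = stratum (d i)) := by
  induction I using WellFoundedGT.induction with
  | ind I IH =>
  by_cases hI : I = ⊤
  · subst hI
    refine ⟨0, Fin.elim0, fun i => i.elim0, fun i => i.elim0, ?_, fun i => i.elim0⟩
    rw [Set.iUnion_of_empty]
    simp
  obtain ⟨𝔭, h𝔭⟩ := Ideal.nonempty_minimalPrimes hI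
  haveI : 𝔭.IsPrime := h𝔭.1.1
  have hI𝔭 : I ≤ 𝔭 := h𝔭.1.2
  obtain ⟨f, hf𝔭, hf⟩ := exists_mem_others_not_mem I 𝔭 h𝔭
  obtain ⟨g, hg𝔭, hg⟩ := hΦ 𝔭
  set h := g * f with hh
  have hh𝔭 : h ∉ 𝔭 := fun hmem => (‹𝔭.IsPrime›.mem_or_mem hmem).elim hg𝔭 hf𝔭
  -- the key identity
  have hkey : stratum (𝔭, h) = PrimeSpectrum.zeroLocus (I : Set A₀) ∩ {q | h ∉ q.asIdeal} := by
    ext q
    constructor
    · rintro ⟨h1, h2⟩
      exact ⟨fun a ha => h1 (hI𝔭 ha), h2⟩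
    · rintro ⟨h1, h2⟩
      refine ⟨?_, h2⟩
      have hIq : I ≤ q.asIdeal := h1
      obtain ⟨𝔮, h𝔮, h𝔮q⟩ := Ideal.exists_minimalPrimes_le hIq
      by_cases hne : 𝔮 = 𝔭
      · exact hne ▸ h𝔮q
      · exact absurd (q.asIdeal.mul_mem_left g (h𝔮q (hf 𝔮 h𝔮 hne))) h2
  have hlt : I < I ⊔ Ideal.span {h} := by
    refine lt_of_le_of_ne le_sup_left fun heq => hh𝔭 (hI𝔭 ?_)
    rw [heq]
    exact Ideal.mem_sup_right (Ideal.subset_span rfl)
  obtain ⟨m', d', hgood, hdisj, hunion, hopen⟩ := IH _ hlt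
  have hunion' : (⋃ i, stratum (d' i)) =
      PrimeSpectrum.zeroLocus (I : Set A₀) ∩ {q | h ∈ q.asIdeal} := by
    rw [hunion]
    ext q
    simp only [PrimeSpectrum.mem_zeroLocus, Set.mem_inter_iff, Set.mem_setOf_eq,
      SetLike.coe_subset_coe]
    constructor
    · intro hq
      exact ⟨le_sup_left.trans hq, hq (Ideal.mem_sup_right (Ideal.subset_span rfl))⟩
    · rintro ⟨h1, h2⟩
      exact sup_le h1 ((Ideal.span_singleton_le_iff_mem _).mpr h2)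
  have hsub : ∀ j, stratum (d' j) ⊆ {q | h ∈ q.asIdeal} := fun j q hq =>
    ((hunion' ▸ Set.mem_iUnion.mpr ⟨j, hq⟩ :
      q ∈ PrimeSpectrum.zeroLocus (I : Set A₀) ∩ {q | h ∈ q.asIdeal})).2
  refine ⟨m' + 1, Fin.cons (α := fun _ => Ideal A₀ × A₀) (𝔭, h) d', ?_, ?_, ?_, ?_⟩
  · intro i
    refine Fin.cases ?_ (fun j => ?_) i
    · simp only [Fin.cons_zero]
      exact ⟨‹𝔭.IsPrime›, hg f⟩
    · simp only [Fin.cons_succ]
      exact hgood j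
  · intro i j
    refine Fin.cases ?_ (fun i' => ?_) i <;> refine Fin.cases ?_ (fun j' => ?_) j
    · intro hne; exact absurd rfl hne
    · intro _
      simp only [Fin.cons_zero, Fin.cons_succ]
      rw [Set.disjoint_left]
      intro q hq hq'
      exact hq.2 (hsub j' hq')
    · intro _
      simp only [Fin.cons_zero, Fin.cons_succ]
      rw [Set.disjoint_left]
      intro q hq hq'
      exact hq'.2 (hsub i' hq)
    · intro hne
      simp only [Fin.cons_succ]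
      exact hdisj i' j' (fun e => hne (congrArg Fin.succ e))
  · rw [iUnion_cons, hkey, hunion']
    ext q
    simp only [Set.mem_union, Set.mem_inter_iff, Set.mem_setOf_eq]
    constructor
    · rintro (⟨h1, _⟩ | ⟨h1, _⟩) <;> exact h1
    · intro h1
      by_cases hq : h ∈ q.asIdeal
      · exact Or.inr ⟨h1, hq⟩
      · exact Or.inl ⟨h1, hq⟩
  · intro i
    refine Fin.cases ?_ (fun k => ?_) i
    · refine ⟨{q | h ∉ q.asIdeal}, ?_, ?_⟩
      · exact (PrimeSpectrum.basicOpen h).isOpen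
      · rw [iUnion_ge_zero, iUnion_cons, hkey, hunion']
        simp only [Fin.cons_zero]
        rw [hkey]
        ext q
        simp only [Set.mem_union, Set.mem_inter_iff, Set.mem_setOf_eq]
        constructor
        · rintro ⟨hq, (⟨h1, _⟩ | ⟨h1, _⟩)⟩ <;> exact ⟨h1, hq⟩
        · rintro ⟨h1, hq⟩
          exact ⟨hq, Or.inl ⟨h1, hq⟩⟩
    · obtain ⟨U, hU, hUeq⟩ := hopen k
      refine ⟨U, hU, ?_⟩
      rw [iUnion_ge_cons_succ]
      simp only [Fin.cons_succ]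
      exact hUeq

end Groth.Agent.H70.GrFree
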