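import Mathlib
import Groth.Agent.H70.GrFree.GenStep
import Groth.Agent.H70.GrFree.Strat

set_option autoImplicit false
set_option linter.style.haveILetI false

/-!
# Affine stratification with flat graded quotients (helper70)
-/

namespace Groth.Agent.H70.GrFree

open TensorProduct AlgebraicGeometry CategoryTheory

universe u

section Stratum

variable {A₀ : Type u} [CommRing A₀] (𝔭 : Ideal A₀) (h : A₀)

theorem isImmersion_stratum :
    IsImmersion (Spec.map (CommRingCat.ofHom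
      (algebraMap A₀ (Localization.Away (Ideal.Quotient.mk 𝔭 h))))) := by
  have e : algebraMap A₀ (Localization.Away (Ideal.Quotient.mk 𝔭 h)) =
      (algebraMap (A₀ ⧸ 𝔭) (Localization.Away (Ideal.Quotient.mk 𝔭 h))).comp
        (algebraMap A₀ (A₀ ⧸ 𝔭)) :=
    IsScalarTower.algebraMap_eq _ _ _
  rw [e, CommRingCat.ofHom_comp, Spec.map_comp]
  haveI : IsOpenImmersion (Spec.map (CommRingCat.ofHom
      (algebraMap (A₀ ⧸ 𝔭) (Localization.Away (Ideal.Quotient.mk 𝔭 h))))) :=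
    IsOpenImmersion.of_isLocalization (Ideal.Quotient.mk 𝔭 h)
  haveI : IsClosedImmersion (Spec.map (CommRingCat.ofHom (algebraMap A₀ (A₀ ⧸ 𝔭)))) :=
    IsClosedImmersion.spec_of_surjective _ Ideal.Quotient.mk_surjective
  infer_instance

theorem range_comap_stratum :
    Set.range (PrimeSpectrum.comap
      (algebraMap A₀ (Localization.Away (Ideal.Quotient.mk 𝔭 h)))) = stratum (𝔭, h) := by
  have e : algebraMap A₀ (Localization.Away (Ideal.Quotient.mk 𝔭 h)) =
      (algebraMap (A₀ ⧸ 𝔭) (Localization.Away (Ideal.Quotient.mk 𝔭 h))).comp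
        (algebraMap A₀ (A₀ ⧸ 𝔭)) :=
    IsScalarTower.algebraMap_eq _ _ _
  rw [e, PrimeSpectrum.comap_comp, Set.range_comp,
    PrimeSpectrum.localization_away_comap_range _ (Ideal.Quotient.mk 𝔭 h)]
  ext q
  simp only [Set.mem_image, stratum, Set.mem_setOf_eq]
  constructor
  · rintro ⟨q', hq', rfl⟩
    refine ⟨?_, ?_⟩
    · intro a ha
      change algebraMap A₀ (A₀ ⧸ 𝔭) a ∈ q'.asIdeal
      rw [Ideal.Quotient.algebraMap_eq, Ideal.Quotient.eq_zero_iff_mem.mpr ha]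
      exact Ideal.zero_mem _
    · exact hq'
  · rintro ⟨h1, h2⟩
    have hq : q ∈ Set.range (PrimeSpectrum.comap (algebraMap A₀ (A₀ ⧸ 𝔭))) := by
      rw [range_comap_of_surjective _ (algebraMap A₀ (A₀ ⧸ 𝔭)) Ideal.Quotient.mk_surjective]
      intro a ha
      have : a ∈ 𝔭 := by
        rw [← Ideal.Quotient.eq_zero_iff_mem]
        exact ha
      exact h1 this
    obtain ⟨q', rfl⟩ := hq
    exact ⟨q', h2, rfl⟩

theorem range_specMap_stratum :
    Set.range (Spec.map (CommRingCat.ofHom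
      (algebraMap A₀ (Localization.Away (Ideal.Quotient.mk 𝔭 h))))) = stratum (𝔭, h) :=
  range_comap_stratum 𝔭 h

end Stratum

/-- **Affine stratification with flat graded quotients.** -/
theorem exists_affine_stratification {A₀ : Type u} [CommRing A₀] [IsNoetherianRing A₀]
    {B₀ : Type u} [CommRing B₀] [Algebra A₀ B₀] [Algebra.FiniteType A₀ B₀] (J₀ : Ideal B₀)
    (M₀ : Type u) [AddCommGroup M₀] [Module B₀ M₀] [Module A₀ M₀] [IsScalarTower A₀ B₀ M₀]
    [Module.Finite B₀ M₀] :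
    ∃ (m : ℕ) (d : Fin m → Ideal A₀ × A₀),
      (∀ i j, i ≠ j → Disjoint (stratum (d i)) (stratum (d j))) ∧
      (⋃ i, stratum (d i) = Set.univ) ∧
      (∀ i, ∃ U : Set (PrimeSpectrum A₀), IsOpen U ∧
        U ∩ (⋃ j, ⋃ (_ : i ≤ j), stratum (d j)) = stratum (d i)) ∧
      ∀ i (n : ℕ), Module.Flat (Localization.Away (Ideal.Quotient.mk (d i).1 (d i).2))
        ↥(((Pn A₀ B₀ J₀ M₀ n).baseChange
            (Localization.Away (Ideal.Quotient.mk (d i).1 (d i).2))).map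
          ((Pn A₀ B₀ J₀ M₀ (n + 1)).baseChange
            (Localization.Away (Ideal.Quotient.mk (d i).1 (d i).2))).mkQ) := by
  let Φ : Ideal A₀ → A₀ → Prop := fun 𝔭 h => ∀ n : ℕ,
    Module.Flat (Localization.Away (Ideal.Quotient.mk 𝔭 h))
      ↥(((Pn A₀ B₀ J₀ M₀ n).baseChange (Localization.Away (Ideal.Quotient.mk 𝔭 h))).map
        ((Pn A₀ B₀ J₀ M₀ (n + 1)).baseChange (Localization.Away (Ideal.Quotient.mk 𝔭 h))).mkQ)
  have hΦ : ∀ (𝔭 : Ideal A₀) [𝔭.IsPrime], ∃ g, g ∉ 𝔭 ∧ ∀ f, Φ 𝔭 (g * f) := by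
    intro 𝔭 _
    obtain ⟨g, hg, H⟩ := exists_flat_subQuot B₀ J₀ M₀ 𝔭
    refine ⟨g, hg, fun f n => H (Localization.Away (Ideal.Quotient.mk 𝔭 (g * f))) ?_ n⟩
    have hu : IsUnit (algebraMap (A₀ ⧸ 𝔭) (Localization.Away (Ideal.Quotient.mk 𝔭 (g * f)))
        (Ideal.Quotient.mk 𝔭 (g * f))) := IsLocalization.Away.algebraMap_isUnit _
    rw [map_mul, map_mul] at hu
    have hu' := isUnit_of_mul_isUnit_left hu
    rwa [← Ideal.Quotient.algebraMap_eq, ← IsScalarTower.algebraMap_apply] at hu'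
  obtain ⟨m, d, hgood, hdisj, hunion, hopen⟩ := exists_stratification Φ hΦ ⊥
  refine ⟨m, d, hdisj, ?_, hopen, fun i n => (hgood i).2 n⟩
  rw [hunion]
  simp

end Groth.Agent.H70.GrFree
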